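import Mathlib
import Groth.Agent.Lib.Helper15.FppfBridge3
import Groth.Agent.Lib.Helper15.AlgSpLocPRep
import Groth.Agent.Lib.Helper15.AlgSpPoints
import Groth.Agent.Lib.Helper19.AlgStRep
import Groth.Agent.Lib.Helper19.FpqcAff.ImmFppf

/-!
# Effective descent of immersions of sheaves along an fppf cover by an algebraic space (helper19)
-/

set_option autoImplicit false
set_option backward.isDefEq.respectTransparency false

universe u

open CategoryTheory CategoryTheory.Limits Functor AlgebraicGeometry Opposite MorphismProperty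

namespace Groth.Agent.Helper19.ClDesc

open AlgSp Groth.Agent.Helper15

variable {S : Scheme.{u}}

/-- a map from a sheaf to a scheme whose base change along an fppf cover by an algebraic space is an immersion
is an immersion, and the sheaf is an algebraic space. -/
theorem repWith_isImmersion_of_fppf_square
    {G B C : Sp S} {T : Over S} (m : G ⟶ (yon S).obj T) (hB : IsAlgSpace B)
    (b : B ⟶ (yon S).obj T) (hb₁ : LocP @Flat b) (hb₂ : LocP @LocallyOfFinitePresentation b)
    (hb₃ : IsSurjectiveMor b) (γ : C ⟶ B) (q : C ⟶ G) (sq : IsPullback γ q b m)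
    (hγ : RepWith @IsImmersion γ) : RepWith @IsImmersion m ∧ IsAlgSpace G := by
  obtain ⟨V, a, hae, has⟩ := hB.atlas
  let p : (yon S).obj V ⟶ (yon S).obj T := a ≫ b
  have hrepp : Representable p := (IsAlgSpace.yon_obj T).representable_from_yon p
  have hp₁ : RepWith @Flat p :=
    repWith_of_locP goodP_flat (IsAlgSpace.yon_obj T) p hrepp
      (Groth.Agent.Helper19.AlgStRep.locP_comp_repWith_etale @Flat a b hae hb₁)
  have hp₂ : RepWith @LocallyOfFinitePresentation p :=
    repWith_of_locP goodP_lfp (IsAlgSpace.yon_obj T) p hrepp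
      (Groth.Agent.Helper19.AlgStRep.locP_comp_repWith_etale @LocallyOfFinitePresentation a b hae hb₂)
  have hp₃ : RepWith @Surjective p :=
    repWith_surjective_of_isSurjectiveMor p hrepp
      (Groth.Agent.Helper19.AlgStRep.isSurjectiveMor_comp_repWith a b has hb₃)
  obtain ⟨p₀, hp₀⟩ := (yon S).map_surjective p
  rw [← hp₀] at hp₁ hp₂ hp₃
  have hfl : Flat p₀.left := (repWith_yon_map_iff _ _).1 hp₁
  have hlfp : LocallyOfFinitePresentation p₀.left := (repWith_yon_map_iff _ _).1 hp₂
  have hsurj : Surjective p₀.left := (repWith_yon_map_iff _ _).1 hp₃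
  have hrep := hγ.rep
  have sq1 := hrep.isPullback a
  have big : IsPullback (hrep.fst a ≫ q) ((yon S).map (hrep.snd a)) m ((yon S).map p₀) := by
    rw [hp₀]
    exact sq1.paste_horiz sq.flip
  have himm : IsImmersion (hrep.snd a).left := hγ.property_snd a
  obtain ⟨W, j, e, he⟩ := Bridge.exists_rep_of_slqf (ι := PUnit.{u + 1}) (V' := fun _ => hrep.pullback a)
    (fst := fun _ => hrep.fst a ≫ q) (T' := fun _ => V) (c := fun _ => p₀) (π := fun _ => hrep.snd a)
    (fun _ => big) (fun _ => hfl) (fun _ => hlfp)
    (fun x => ⟨PUnit.unit, hsurj.surj x⟩)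
    (fun _ => ⟨inferInstance, inferInstance, inferInstance⟩)
  obtain ⟨w, hw, sqS⟩ := Bridge.exists_chart_of_rep j e he big
  have sqL : IsPullback w.left (hrep.snd a).left j.left p₀.left := sqS.map (Over.forget S)
  have hj : IsImmersion j.left :=
    MorphismProperty.of_isPullback_of_descendsAlong (P := @IsImmersion)
      (Q := (@Surjective ⊓ @Flat ⊓ @LocallyOfFinitePresentation : MorphismProperty Scheme.{u}))
      sqL.flip ⟨⟨hsurj, hfl⟩, hlfp⟩ himm
  have h1 : RepWith @IsImmersion ((yon S).map j) := (repWith_yon_map_iff _ _).2 hj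
  rw [← he] at h1
  exact ⟨((RepWith @IsImmersion).cancel_left_of_respectsIso e.hom m).1 h1,
    (IsAlgSpace.yon_obj W).of_iso e⟩

end Groth.Agent.Helper19.ClDesc
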