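import Mathlib
import Groth.Agent.Lib.Helper19.OpenCov.Main
import Groth.Agent.Lib.Helper19.ChartOver
import Groth.Agent.Lib.Helper19.FibSetoidFp

/-!
# The base change of a fully faithful functor of stacks to a scheme is the category of a sheaf (helper19)
-/

set_option autoImplicit false
set_option backward.isDefEq.respectTransparency false

universe u

open CategoryTheory CategoryTheory.Limits Functor AlgebraicGeometry Opposite

namespace Groth.Agent.Helper19.ClDesc

open FibCat AlgSt Stk Groth.Agent.Helper19.FibLib Groth.Agent.Helper19.StLib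

variable {S : Scheme.{u}}

/-- the 2-fibre product of a slice with a faithful functor is fibred in setoids. -/
theorem isFibSetoid_fp_overCat {𝒳 𝒴 : AlgSt.Cat S} {T : Over S} (t : overCat T ⥤ᵇ 𝒴) (f : 𝒳 ⥤ᵇ 𝒴)
    [f.toFunctor.Faithful] (hfp : IsFibGrpd (fp t f).p) : IsFibSetoid (fp t f).p := by
  refine ⟨hfp, fun a => ?_⟩
  intro P P'
  constructor
  intro Φ Ψ
  apply Functor.Fiber.hom_ext
  have hΦ : (fp t f).p.IsHomLift (𝟙 a) Φ.1 := Φ.2
  have hΨ : (fp t f).p.IsHomLift (𝟙 a) Ψ.1 := Ψ.2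
  have e1 : Φ.1.hom.fst = Ψ.1.hom.fst := by
    apply (Over.forget T).map_injective
    have h1 := IsHomLift.fac' (fp t f).p (𝟙 a) Φ.1
    have h2 := IsHomLift.fac' (fp t f).p (𝟙 a) Ψ.1
    exact h1.trans h2.symm
  apply fp_hom_ext e1
  apply f.toFunctor.map_injective
  have w1 := fp_w Φ.1
  have w2 := fp_w Ψ.1
  rw [e1] at w1
  have : P.1.obj.iso.hom ≫ f.map Φ.1.hom.snd = P.1.obj.iso.hom ≫ f.map Ψ.1.hom.snd := w1.symm.trans w2
  exact (cancel_epi _).1 this

/-- the base change to a scheme of a faithful functor of algebraic stacks is the category of a sheaf. -/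
theorem exists_sheaf_fp {𝒳 𝒴 : AlgSt.Cat S} (h𝒳 : IsAlgStack Scheme.fppfPrecoverage 𝒳)
    (h𝒴 : IsAlgStack Scheme.fppfPrecoverage 𝒴) {T : Over S} (t : overCat T ⥤ᵇ 𝒴) (f : 𝒳 ⥤ᵇ 𝒴)
    [f.toFunctor.Faithful] :
    ∃ (G : AlgSp.Sp S) (e : fp t f ⥤ᵇ ofSp G), IsEquivOver e := by
  have halg : IsAlgStack Scheme.fppfPrecoverage (fp t f) :=
    Groth.Agent.Helper19.ProdAlg.isAlgStack_fp h𝒴.isStack h𝒴.diag
      (Groth.Agent.Helper19.ChartOver.isAlgStack_overCat T) h𝒳 t f
  exact Groth.Agent.Helper19.OpenCov.exists_sheaf_equiv halg.isStack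
    (isFibSetoid_fp_overCat t f halg.isStack.1)

end Groth.Agent.Helper19.ClDesc
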