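import Mathlib
import Groth.Agent.Lib.Helper15.AffDesc8
import Groth.Agent.Lib.Helper15.AlgSpLocPRep
import Groth.Agent.Lib.Helper15.AlgSpPoints
import Groth.Agent.Lib.Helper19.AlgStRep

/-!
# Effective descent of affine-type morphisms of sheaves along an fppf cover by an algebraic space (helper19)
-/

set_option autoImplicit false
set_option backward.isDefEq.respectTransparency false

universe u

open CategoryTheory CategoryTheory.Limits Functor AlgebraicGeometry Opposite MorphismProperty

namespace Groth.Agent.Helper19.ClDesc

open AlgSp Groth.Agent.Helper15 Groth.Agent.Helper15.AffDesc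

variable {S : Scheme.{u}}

/-- a map from a sheaf to a scheme whose base change along an fppf cover by an algebraic space is representable
with an affine-type property `Q` which descends is representable with `Q`. -/
theorem repWith_of_fppf_square {Q : MorphismProperty Scheme.{u}} [Q.IsStableUnderBaseChange]
    [IsZariskiLocalAtTarget Q] (hQa : Q ≤ @IsAffineHom) (hQd : DescAff Q)
    {G B C : Sp S} {T : Over S} (m : G ⟶ (yon S).obj T) (hB : IsAlgSpace B)
    (b : B ⟶ (yon S).obj T) (hb₁ : LocP @Flat b) (hb₂ : LocP @LocallyOfFinitePresentation b)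
    (hb₃ : IsSurjectiveMor b) (γ : C ⟶ B) (q : C ⟶ G) (sq : IsPullback γ q b m)
    (hγ : RepWith Q γ) : RepWith Q m := by
  obtain ⟨V, a, hae, has⟩ := hB.atlas
  let p : (yon S).obj V ⟶ (yon S).obj T := a ≫ b
  have hrep : Representable p := (IsAlgSpace.yon_obj T).representable_from_yon p
  have hp₁ : RepWith @Flat p :=
    repWith_of_locP goodP_flat (IsAlgSpace.yon_obj T) p hrep
      (Groth.Agent.Helper19.AlgStRep.locP_comp_repWith_etale @Flat a b hae hb₁)
  have hp₂ : RepWith @LocallyOfFinitePresentation p :=
    repWith_of_locP goodP_lfp (IsAlgSpace.yon_obj T) p hrep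
      (Groth.Agent.Helper19.AlgStRep.locP_comp_repWith_etale @LocallyOfFinitePresentation a b hae hb₂)
  have hp₃ : RepWith @Surjective p :=
    repWith_surjective_of_isSurjectiveMor p hrep
      (Groth.Agent.Helper19.AlgStRep.isSurjectiveMor_comp_repWith a b has hb₃)
  have sq1 : IsPullback (pullback.fst γ a) (pullback.snd γ a) γ a := IsPullback.of_hasPullback γ a
  have big : IsPullback (pullback.fst γ a ≫ q) (pullback.snd γ a) m (a ≫ b) :=
    sq1.paste_horiz sq.flip
  have hsnd : RepWith Q (pullback.snd γ a) := (RepWith Q).of_isPullback sq1 hγ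
  exact repWith_of_affRep m
    (affRep_of_chart hQa hQd m p hp₁ hp₂ hp₃ (pullback.fst γ a ≫ q) (pullback.snd γ a) big
      (affRep_of_repWith hsnd))

/-- the source of a map to a scheme which is representable by schemes is an algebraic space. -/
theorem isAlgSpace_of_representable {G : Sp S} {T : Over S} (m : G ⟶ (yon S).obj T)
    (hm : Representable m) : IsAlgSpace G := by
  have sq := hm.isPullback (𝟙 ((yon S).obj T))
  haveI : IsIso (hm.fst (𝟙 ((yon S).obj T))) := by
    have := sq.flip
    exact IsPullback.isIso_snd_of_isIso this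
  exact (IsAlgSpace.yon_obj _).of_iso (asIso (hm.fst (𝟙 ((yon S).obj T))))

end Groth.Agent.Helper19.ClDesc
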