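import Mathlib
import Groth.Agent.Lib.Helper19.ClDesc.Main
import Groth.Agent.Lib.Helper19.ClDesc.ImmSheaf
import Groth.Agent.Lib.Helper19.FpqcAff.ImmFppf2

/-!
# Immersions of algebraic stacks can be tested after an fppf base change (helper19)
-/

set_option autoImplicit false
set_option backward.isDefEq.respectTransparency false

universe u

open CategoryTheory CategoryTheory.Limits AlgebraicGeometry

namespace Groth.Agent.Helper19.ClDesc

open FibCat AlgSt Stk Groth.Agent.Helper19.FibLib Groth.Agent.Helper19.StLib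
  Groth.Agent.Helper19.PshSt Groth.Agent.Helper19.PshLib Groth.Agent.Helper19.StPts
  Groth.Agent.Helper19.AlgP Groth.Agent.Helper19.DescCover Groth.Agent.Helper19.GerbMono
  Groth.Agent.Helper19.SpProps Groth.Agent.Helper16.AS

variable {S : Scheme.{u}}

/-- effective descent of a property of maps from sheaves to schemes along fppf covers by algebraic spaces. -/
def EffDesc (P : MorphismProperty (AlgSp.Sp S)) : Prop :=
  ∀ ⦃G B C : AlgSp.Sp S⦄ ⦃T : Over S⦄ (m : G ⟶ (AlgSp.yon S).obj T), AlgSp.IsAlgSpace B →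
    ∀ (b : B ⟶ (AlgSp.yon S).obj T), AlgSp.LocP @Flat b → AlgSp.LocP @LocallyOfFinitePresentation b →
      AlgSp.IsSurjectiveMor b → ∀ (γ : C ⟶ B) (q : C ⟶ G), IsPullback γ q b m → P γ →
        P m ∧ AlgSp.IsAlgSpace G

theorem effDesc_isImmersion : EffDesc (S := S) (AlgSp.RepWith @IsImmersion) :=
  fun _ _ _ _ m hB b hb₁ hb₂ hb₃ γ q sq hγ =>
    repWith_isImmersion_of_fppf_square m hB b hb₁ hb₂ hb₃ γ q sq hγ

/-- **effective descent**: a faithful morphism of algebraic stacks whose base change along an fppf cover has a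
property `P` with effective descent has `P`. -/
theorem repByAlgSpWith_of_cover_effDesc {P : MorphismProperty (AlgSp.Sp S)} (hPb : StableAlg P)
    (hPd : DescAtlas P) (hE : EffDesc P)
    {𝒳 𝒴 𝒵 : AlgSt.Cat S} (h𝒳 : IsAlgStack Scheme.fppfPrecoverage 𝒳)
    (h𝒴 : IsAlgStack Scheme.fppfPrecoverage 𝒴) (h𝒵 : IsFibGrpd 𝒵.p) (f : 𝒳 ⥤ᵇ 𝒴)
    [f.toFunctor.Faithful] (w : 𝒵 ⥤ᵇ 𝒴) (hw : RepByAlgSpWith fppfP w)
    (h' : RepByAlgSpWith P (fpFst w f)) : RepByAlgSpWith P f := by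
  intro T t
  obtain ⟨G, eG, heG⟩ := exists_sheaf_fp h𝒳 h𝒴 t f
  obtain ⟨eA, heA, -, -⟩ := IsEquivOver.exists_inv heG
  obtain ⟨B, eB, heB, ⟨⟨hflat, hlfp⟩, hsurj⟩⟩ := hw T t
  obtain ⟨C, γ₀, q, sq, hγ⟩ := exists_square hPb hPd
    h𝒳.isStack.1 h𝒴.isStack.1 h𝒵 f w h' t G eA heA B eB heB
  obtain ⟨hm, hG⟩ := hE (spMapOfOver (BasedFunctor.comp eA (fpFst t f))) B.property _ hflat hlfp hsurj
    γ₀ q sq hγ
  exact ⟨⟨G, hG⟩, eA, heA, hm⟩

theorem descAtlas_imm : DescAtlas (S := S) (AlgSp.RepWith @IsImmersion) :=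
  descAtlas_of_isLocalOnBase Groth.Agent.Helper19.FpqcAff.isLocalOnBase_fppf_repWith_isImmersion

theorem stableAlg_imm : StableAlg (S := S) (AlgSp.RepWith @IsImmersion) :=
  Groth.Agent.Helper19.InertiaLib.stableAlg_repWith @IsImmersion

theorem mono_of_repWith_isImmersion {G H : AlgSp.Sp S} (f : G ⟶ H)
    (hf : AlgSp.RepWith @IsImmersion f) : Mono f :=
  Groth.Agent.Helper15.mono_of_repWith (P := @IsImmersion)
    (fun _ _ g hg => by haveI := hg; exact (inferInstance : Mono g)) f hf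

section main

variable {𝒳 𝒴 : AlgSt.Cat S} (h𝒳 : IsAlgStack Scheme.fppfPrecoverage 𝒳)
  (h𝒴 : IsAlgStack Scheme.fppfPrecoverage 𝒴) (f : 𝒳 ⥤ᵇ 𝒴) (W V : AlgSp.Space S) (w : ofSp W.obj ⥤ᵇ 𝒴)
  (a : V ⟶ W) (e : ofSp V.obj ⥤ᵇ fp w f) (he : IsEquivOver e)
  (θ : BasedFunctor.comp e (fpFst w f) ≅ ofSpMap a.hom) (ha : AlgSp.RepWith @IsImmersion a.hom)
  (hw₁ : RepByAlgSpWith (AlgSp.LocP @Flat) w)
  (hw₂ : RepByAlgSpWith (AlgSp.LocP @LocallyOfFinitePresentation) w)
  (hw₃ : RepByAlgSpWith AlgSp.IsSurjectiveMor w)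

include h𝒳 h𝒴 he θ ha hw₁ hw₂ hw₃ in
/-- **S12873 (⇐)**: a morphism of algebraic stacks whose base change along an fppf cover by an algebraic space is an
immersion of algebraic spaces is an immersion. -/
theorem isImm_of_cover : IsImm f := by
  have hW := isAlgStack_ofSp W
  have hmono : RepByAlgSpWith (MorphismProperty.monomorphisms (AlgSp.Sp S)) (ofSpMap a.hom) :=
    (Groth.Agent.Helper19.SrcLoc.repByAlgSpWith_ofSpMap_iff Groth.Agent.Helper19.MonoDesc.stableAlg_mono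
      Groth.Agent.Helper19.MonoDesc.descAtlas_mono a.hom).2
      (MorphismProperty.monomorphisms.infer_property
        (hf := mono_of_repWith_isImmersion a.hom ha) a.hom)
  have h2 : RepByAlgSpWith (MorphismProperty.monomorphisms (AlgSp.Sp S)) (BasedFunctor.comp e (fpFst w f)) :=
    repByAlgSpWith_of_iso θ hmono
  have h3 : IsMono (fpFst w f) := (repByAlgSpWith_equiv_comp e he (fpFst w f)).1 h2
  obtain ⟨hfull, hfaith⟩ := Groth.Agent.Helper19.OpenDesc.full_faithful_of_isMono_fpFst h𝒳 h𝒴 hW.isStack.1 f w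
    (repByAlgSpWith_fppfP w hw₁ hw₂ hw₃) h3
  haveI := hfaith
  have hcl : RepByAlgSpWith (AlgSp.RepWith @IsImmersion) (ofSpMap a.hom) :=
    (Groth.Agent.Helper19.SrcLoc.repByAlgSpWith_ofSpMap_iff stableAlg_imm descAtlas_imm a.hom).2 ha
  have h4 : RepByAlgSpWith (AlgSp.RepWith @IsImmersion) (BasedFunctor.comp e (fpFst w f)) :=
    repByAlgSpWith_of_iso θ hcl
  have h5 : RepByAlgSpWith (AlgSp.RepWith @IsImmersion) (fpFst w f) :=
    (repByAlgSpWith_equiv_comp e he (fpFst w f)).1 h4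
  exact repByAlgSpWith_of_cover_effDesc stableAlg_imm descAtlas_imm effDesc_isImmersion h𝒳 h𝒴
    hW.isStack.1 f w (repByAlgSpWith_fppfP w hw₁ hw₂ hw₃) h5

end main

end Groth.Agent.Helper19.ClDesc
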